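import Groth.Prelude.Def_W4c3perfectstacksMV
import Groth.Agent.H16Derived.Compact
import Mathlib.CategoryTheory.Triangulated.Functor
import Mathlib.CategoryTheory.Triangulated.Adjunction
import Mathlib.CategoryTheory.Shift.Adjunction
import Mathlib.CategoryTheory.Adjunction.Additive
import Mathlib.CategoryTheory.Adjunction.FullyFaithful
import Mathlib.CategoryTheory.Adjunction.Limits

/-!
# Mayer–Vietoris squares of triangulated categories
-/

set_option autoImplicit false
set_option linter.style.haveILetI false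
set_option linter.unusedSectionVars false

universe v u

open CategoryTheory CategoryTheory.Limits CategoryTheory.Pretriangulated

namespace Groth.Agent.H16Derived.MVTri

section Localisation

variable {S R : Type u} [Category.{v} S] [Category.{v} R] [Preadditive S] [Preadditive R]
  [HasZeroObject S] [HasZeroObject R] [HasShift S ℤ] [HasShift R ℤ]
  [∀ n : ℤ, (shiftFunctor S n).Additive] [∀ n : ℤ, (shiftFunctor R n).Additive]
  [Pretriangulated S] [Pretriangulated R]
  {L : S ⥤ R} {Rr : R ⥤ S} (adj : L ⊣ Rr) [L.CommShift ℤ] [L.IsTriangulated]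

lemma isZero_map_shift {Z : S} (hZ : IsZero (L.obj Z)) (n : ℤ) : IsZero (L.obj (Z⟦n⟧)) :=
  (Functor.map_isZero (shiftFunctor R n) hZ).of_iso ((L.commShiftIso n).app Z)

include adj in
lemma hom_to_rightAdjoint_eq_zero {Z : S} (hZ : IsZero (L.obj Z)) {Q : R} (x : Z ⟶ Rr.obj Q) :
    x = 0 := by
  refine (adj.homEquiv Z Q).symm.injective ?_
  exact hZ.eq_of_src _ _

omit [Pretriangulated S] [Pretriangulated R] [L.IsTriangulated] in
lemma isIso_neg {C : Type*} [Category C] [Preadditive C] {X Y : C} (f : X ⟶ Y) [IsIso f] :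
    IsIso (-f) :=
  ⟨-inv f, by simp, by simp⟩

include adj in
lemma isIso_map_unit [IsIso adj.counit] (N : S) : IsIso (L.map (adj.unit.app N)) := by
  haveI : IsIso (L.map (adj.unit.app N) ≫ adj.counit.app (L.obj N)) :=
    (congrArg IsIso (adj.left_triangle_components N)).mpr (inferInstanceAs (IsIso (𝟙 (L.obj N))))
  exact IsIso.of_isIso_comp_right _ (adj.counit.app (L.obj N))

lemma exists_fibre [IsIso adj.counit] (N : S) :
    ∃ (K : S) (i : K ⟶ N) (h : Rr.obj (L.obj N) ⟶ K⟦(1 : ℤ)⟧),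
      Triangle.mk i (adj.unit.app N) h ∈ distTriang S ∧ IsZero (L.obj K) := by
  obtain ⟨K, i, h, hT⟩ := distinguished_cocone_triangle₁ (adj.unit.app N)
  refine ⟨K, i, h, hT, Triangle.isZero₁_of_isIso₂ _ (L.map_distinguished _ hT) ?_⟩
  exact isIso_map_unit adj N

lemma isIso_of_killed {X Y : S} (f : X ⟶ Y) (hf : IsIso (L.map f))
    (hb : ∀ Z : S, IsZero (L.obj Z) → Function.Bijective (fun x : Z ⟶ X => x ≫ f)) : IsIso f := by
  obtain ⟨C, a, b, hT⟩ := distinguished_cocone_triangle₁ f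
  have hC : IsZero (L.obj C) := Triangle.isZero₁_of_isIso₂ _ (L.map_distinguished _ hT) hf
  have haf : a ≫ f = 0 := comp_distTriang_mor_zero₁₂ _ hT
  have ha : a = 0 := (hb C hC).1 (by simpa using haf)
  refine (Triangle.isZero₁_iff_isIso₂ _ hT).1 ?_
  refine (Triangle.isZero₁_iff _ hT).2 ⟨ha, ?_⟩
  obtain ⟨s, hs⟩ := Triangle.coyoneda_exact₁ _ hT (𝟙 (C⟦(1 : ℤ)⟧))
    ((congrArg (𝟙 _ ≫ ·) ((congrArg (fun z => (shiftFunctor S (1 : ℤ)).map z) ha).trans (Functor.map_zero _ _ _))).trans comp_zero)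
  obtain ⟨x, hx⟩ := (hb _ (isZero_map_shift hC 1)).2 s
  have hfb : f ≫ b = 0 := comp_distTriang_mor_zero₂₃ _ hT
  have h0 : 𝟙 (C⟦(1 : ℤ)⟧) = 0 := hs.trans
    ((congrArg (· ≫ b) hx.symm).trans ((Category.assoc x f b).trans
      ((congrArg (x ≫ ·) hfb).trans comp_zero)))
  exact ((IsZero.iff_id_eq_zero _).2 h0).eq_of_tgt _ _

lemma hom_ext_killed [IsIso adj.counit] {W P : S}
    (hP : ∀ Z : S, IsZero (L.obj Z) → ∀ x : Z ⟶ P, x = 0) {x y : W ⟶ P}
    (h : L.map x = L.map y) : x = y := by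
  obtain ⟨K, i, h', hT, hK⟩ := exists_fibre adj P
  haveI : L.Additive := inferInstance
  have hz : L.map (x - y) = 0 := by rw [L.map_sub, h, sub_self]
  have h0 : (x - y) ≫ adj.unit.app P = 0 := by
    refine (adj.unit.naturality (x - y)).trans ?_
    haveI : Rr.Additive := adj.right_adjoint_additive
    show adj.unit.app W ≫ Rr.map (L.map (x - y)) = 0
    rw [hz, Rr.map_zero, comp_zero]
  obtain ⟨z, hz'⟩ := Triangle.coyoneda_exact₂ _ hT (x - y) h0
  rw [← sub_eq_zero, hz', hP K hK i]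
  exact comp_zero

/-- If a triangle becomes split by the second summand after applying `L`, its first map becomes an
isomorphism onto the first summand. -/
lemma isIso_map_fst {X A B P : S} {a : X ⟶ A ⊞ B} {b : A ⊞ B ⟶ P} {d : P ⟶ X⟦(1 : ℤ)⟧}
    (hT : Triangle.mk a b d ∈ distTriang S) (hv : IsIso (L.map (biprod.inr ≫ b))) :
    IsIso (L.map (a ≫ biprod.fst)) := by
  haveI : L.Additive := inferInstance
  let v := L.map (biprod.inr ≫ b)
  let iA := L.map (biprod.inl : A ⟶ A ⊞ B)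
  let iB := L.map (biprod.inr : B ⟶ A ⊞ B)
  let p := L.map (biprod.fst : A ⊞ B ⟶ A)
  let q := L.map (biprod.snd : A ⊞ B ⟶ B)
  have hAp : iA ≫ p = 𝟙 _ := by rw [← L.map_comp, biprod.inl_fst, L.map_id]
  have hBp : iB ≫ p = 0 := by rw [← L.map_comp, biprod.inr_fst, L.map_zero]
  have htot : p ≫ iA + q ≫ iB = 𝟙 _ := by
    rw [← L.map_comp, ← L.map_comp, ← L.map_add, biprod.total, L.map_id]
  have hBv : iB ≫ L.map b = v := (L.map_comp _ _).symm
  let T' := L.mapTriangle.obj (Triangle.mk a b d)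
  have hT' : T' ∈ distTriang R := L.map_distinguished _ hT
  haveI : IsIso v := hv
  haveI : Epi (L.map b) := epi_of_epi_fac hBv
  haveI : Mono (L.map a) := T'.mono₁ hT' ((T'.mor₃_eq_zero_iff_epi₂ hT').2 ‹Epi (L.map b)›)
  have hab : L.map a ≫ L.map b = 0 := comp_distTriang_mor_zero₁₂ _ hT'
  let w : L.obj A ⟶ L.obj (A ⊞ B) := iA - (iA ≫ L.map b ≫ inv v) ≫ iB
  obtain ⟨s, hs⟩ := T'.coyoneda_exact₂ hT' w (by
    show w ≫ L.map b = 0
    simp [w, hBv])
  change L.obj A ⟶ L.obj X at s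
  change w = s ≫ L.map a at hs
  refine ⟨⟨s, ?_, ?_⟩⟩
  · rw [← cancel_mono (L.map a), Category.assoc, ← hs, Category.id_comp, L.map_comp, Category.assoc]
    show L.map a ≫ p ≫ w = L.map a
    have e : L.map a ≫ p ≫ iA ≫ L.map b + L.map a ≫ q ≫ v = 0 := by
      have := congrArg (fun z => L.map a ≫ z ≫ L.map b) htot
      simpa [hBv, hab] using this
    have e' : L.map a ≫ q = -(L.map a ≫ p ≫ iA ≫ L.map b ≫ inv v) := by
      rw [← cancel_mono v]
      simpa [eq_neg_iff_add_eq_zero, add_comm] using e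
    conv_rhs => rw [← Category.comp_id (L.map a), ← htot, Preadditive.comp_add, reassoc_of% e']
    simp [w, sub_eq_add_neg]
  · rw [L.map_comp, ← Category.assoc, ← hs]
    show w ≫ p = 𝟙 _
    simp [w, hAp, hBp]

/-- A triangle `X ⟶ A ⊞ B ⟶ P` with no maps from `Z` to `A` or `P`: the second component is
bijective on maps out of `Z`. -/
lemma bijective_comp_snd {X A B P : S} {a : X ⟶ A ⊞ B} {b : A ⊞ B ⟶ P} {d : P ⟶ X⟦(1 : ℤ)⟧}
    (hT : Triangle.mk a b d ∈ distTriang S) {Z : S} (hA : ∀ x : Z ⟶ A, x = 0)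
    (hP : ∀ x : Z ⟶ P, x = 0) (hP' : ∀ x : Z⟦(1 : ℤ)⟧ ⟶ P, x = 0) :
    Function.Bijective (fun x : Z ⟶ X => x ≫ a ≫ biprod.snd) := by
  refine ⟨fun x y hxy => ?_, fun z => ?_⟩
  · have h0 : (x - y) ≫ a = 0 := by
      apply biprod.hom_ext
      · rw [zero_comp]; exact hA _
      · simpa [sub_eq_zero] using hxy
    obtain ⟨g, hg⟩ := Triangle.coyoneda_exact₁ _ hT ((shiftFunctor S (1 : ℤ)).map (x - y))
      (by show (shiftFunctor S (1 : ℤ)).map (x - y) ≫ (shiftFunctor S (1 : ℤ)).map a = 0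
          rw [← Functor.map_comp, h0, Functor.map_zero])
    rw [hP' g] at hg
    rw [← sub_eq_zero]
    exact (shiftFunctor S (1 : ℤ)).map_injective (hg.trans (zero_comp.trans (Functor.map_zero _ _ _).symm))
  · obtain ⟨x, hx⟩ := Triangle.coyoneda_exact₂ _ hT (z ≫ biprod.inr) (hP _)
    refine ⟨x, ?_⟩
    show x ≫ a ≫ biprod.snd = z
    have hx' : z ≫ biprod.inr = x ≫ a := hx
    simpa using (hx' =≫ biprod.snd).symm

end Localisation

open W4c3perfectstacks

section Square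

variable {S S' R R' : Type u} [Category.{v} S] [Category.{v} S'] [Category.{v} R] [Category.{v} R']
  [Preadditive S] [Preadditive S'] [Preadditive R] [Preadditive R']
  [HasZeroObject S] [HasZeroObject S'] [HasZeroObject R] [HasZeroObject R']
  [HasShift S ℤ] [HasShift S' ℤ] [HasShift R ℤ] [HasShift R' ℤ]
  [∀ n : ℤ, (shiftFunctor S n).Additive] [∀ n : ℤ, (shiftFunctor S' n).Additive]
  [∀ n : ℤ, (shiftFunctor R n).Additive] [∀ n : ℤ, (shiftFunctor R' n).Additive]
  [Pretriangulated S] [Pretriangulated S'] [Pretriangulated R] [Pretriangulated R']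
  (q : MVSq S S' R R')
  [q.jst.CommShift ℤ] [q.fst.CommShift ℤ] [q.jpst.CommShift ℤ] [q.gst.CommShift ℤ]
  [q.jst.IsTriangulated] [q.fst.IsTriangulated] [q.jpst.IsTriangulated] [q.gst.IsTriangulated]

lemma killed_fst {Z : S} (hZ : IsZero (q.jst.obj Z)) : IsZero (q.jpst.obj (q.fst.obj Z)) :=
  (Functor.map_isZero q.gst hZ).of_iso (q.e.app Z).symm

lemma killed_fls (hbc : ∀ M : S', IsIso (q.bcApp M)) {M : S'} (hM : IsZero (q.jpst.obj M)) :
    IsZero (q.jst.obj (q.fls.obj M)) := by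
  haveI := hbc M
  haveI : q.gls.Additive := q.adjG.right_adjoint_additive
  exact (Functor.map_isZero q.gls hM).of_iso (asIso (q.bcApp M))

lemma hom_to_fls_jpls {Z : S} (hZ : IsZero (q.jst.obj Z)) {Q : R'}
    (x : Z ⟶ q.fls.obj (q.jpls.obj Q)) : x = 0 := by
  refine (q.adjF.homEquiv _ _).symm.injective ?_
  exact (hom_to_rightAdjoint_eq_zero q.adjJp (killed_fst q hZ) _).trans
    (hom_to_rightAdjoint_eq_zero q.adjJp (killed_fst q hZ) _).symm

variable {q}
variable (hq : q.IsMV)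
include hq

lemma hom_to_fls_fst_jls {Z : S} (hZ : IsZero (q.jst.obj Z)) {P : R}
    (x : Z ⟶ q.fls.obj (q.fst.obj (q.jls.obj P))) : x = 0 := by
  haveI := hq.isIso_bc2App P
  rw [← cancel_mono (q.fls.map (q.bc2App P)), zero_comp]
  exact hom_to_fls_jpls q hZ _

lemma bc_naturality {M M' : S'} (m : M ⟶ M') :
    q.jst.map (q.fls.map m) ≫ q.bcApp M' = q.bcApp M ≫ q.gls.map (q.jpst.map m) := by
  have h : q.gst.map (q.jst.map (q.fls.map m)) ≫ q.e.hom.app (q.fls.obj M') =
      q.e.hom.app (q.fls.obj M) ≫ q.jpst.map (q.fst.map (q.fls.map m)) := q.e.hom.naturality _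
  simp only [MVSq.bcApp, Category.assoc, ← Functor.map_comp]
  erw [← q.adjG.unit_naturality_assoc]
  simp only [← Functor.map_comp]
  rw [reassoc_of% h]
  simp only [← Functor.map_comp]
  rw [q.adjF.counit_naturality]

lemma isIso_jst_fls_map {M M' : S'} (m : M ⟶ M') (hm : IsIso (q.jpst.map m)) :
    IsIso (q.jst.map (q.fls.map m)) := by
  haveI := hq.isIso_bcApp M
  haveI := hq.isIso_bcApp M'
  haveI : IsIso (q.jst.map (q.fls.map m) ≫ q.bcApp M') := by
    rw [bc_naturality hq]; infer_instance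
  exact IsIso.of_isIso_comp_right _ (q.bcApp M')

lemma isIso_jst_unit (N : S) : IsIso (q.jst.map (q.adjJ.unit.app N)) := by
  haveI := hq.isIso_counitJ
  exact isIso_map_unit q.adjJ N

lemma isIso_jpst_fst_map {N N' : S} (m : N ⟶ N') (hm : IsIso (q.jst.map m)) :
    IsIso (q.jpst.map (q.fst.map m)) := by
  have h : q.jpst.map (q.fst.map m) = q.e.inv.app N ≫ q.gst.map (q.jst.map m) ≫ q.e.hom.app N' := by
    rw [← Iso.app_inv, Iso.eq_inv_comp]
    exact (q.e.hom.naturality m).symm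
  rw [h]
  infer_instance

/-- The key bijection: maps out of an object killed by `j^*` into `N` and into `f_* f^* N`. -/
theorem bijective_unitF {Z : S} (hZ : IsZero (q.jst.obj Z)) (N : S) :
    Function.Bijective (fun x : Z ⟶ N => x ≫ q.adjF.unit.app N) := by
  haveI := hq.isIso_counitJ
  letI := q.adjF.rightAdjointCommShift ℤ
  haveI : q.adjF.CommShift ℤ := q.adjF.commShift_of_leftAdjoint ℤ
  haveI : q.fls.IsTriangulated := q.adjF.isTriangulated_rightAdjoint
  obtain ⟨K, i, h, hT, hK⟩ := exists_fibre q.adjJ N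
  haveI := hq.isIso_unitF K hK
  let T' := q.fls.mapTriangle.obj (q.fst.mapTriangle.obj (Triangle.mk i (q.adjJ.unit.app N) h))
  have hT' : T' ∈ distTriang S := q.fls.map_distinguished _ (q.fst.map_distinguished _ hT)
  have hnat : i ≫ q.adjF.unit.app N = q.adjF.unit.app K ≫ q.fls.map (q.fst.map i) :=
    q.adjF.unit.naturality i
  refine ⟨fun x y hxy => ?_, fun z => ?_⟩
  · rw [← sub_eq_zero]
    have hw : (x - y) ≫ q.adjF.unit.app N = 0 := by simpa [sub_eq_zero] using hxy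
    obtain ⟨w, hw'⟩ := Triangle.coyoneda_exact₂ _ hT (x - y)
      (hom_to_rightAdjoint_eq_zero q.adjJ hZ _)
    change Z ⟶ K at w
    change x - y = w ≫ i at hw'
    have h0 : (w ≫ q.adjF.unit.app K) ≫ T'.mor₁ = 0 := by
      refine (Category.assoc _ _ _).trans (Eq.trans ?_ hw)
      rw [hw', Category.assoc, hnat]
      rfl
    obtain ⟨g, hg⟩ := T'.coyoneda_exact₁ hT'
      ((shiftFunctor S (1 : ℤ)).map (w ≫ q.adjF.unit.app K))
      ((Functor.map_comp _ _ _).symm.trans
        ((congrArg (fun z => (shiftFunctor S (1 : ℤ)).map z) h0).trans (Functor.map_zero _ _ _)))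
    change (Z⟦(1 : ℤ)⟧ ⟶ q.fls.obj (q.fst.obj (q.jls.obj (q.jst.obj N)))) at g
    have hg0 : g = 0 := hom_to_fls_fst_jls hq (isZero_map_shift hZ 1) g
    have : w ≫ q.adjF.unit.app K = 0 := (shiftFunctor S (1 : ℤ)).map_injective
      (hg.trans ((congrArg (· ≫ T'.mor₃) hg0).trans (zero_comp.trans (Functor.map_zero _ _ _).symm)))
    have hw0 : w = 0 := by rw [← cancel_mono (q.adjF.unit.app K), this, zero_comp]
    rw [hw', hw0, zero_comp]
  · obtain ⟨w, hw⟩ := T'.coyoneda_exact₂ hT' z (hom_to_fls_fst_jls hq hZ _)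
    change Z ⟶ q.fls.obj (q.fst.obj K) at w
    change z = w ≫ q.fls.map (q.fst.map i) at hw
    refine ⟨w ≫ inv (q.adjF.unit.app K) ≫ i, ?_⟩
    show (w ≫ inv (q.adjF.unit.app K) ≫ i) ≫ q.adjF.unit.app N = z
    rw [Category.assoc, Category.assoc, hnat, IsIso.inv_hom_id_assoc, hw]

/-- The map appearing as second arrow of the Mayer–Vietoris triangle. -/
noncomputable abbrev mvMap (N : S) :
    q.jls.obj (q.jst.obj N) ⊞ q.fls.obj (q.fst.obj N) ⟶
      q.fls.obj (q.fst.obj (q.jls.obj (q.jst.obj N))) :=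
  biprod.desc (q.adjF.unit.app (q.jls.obj (q.jst.obj N)))
    (-(q.fls.map (q.fst.map (q.adjJ.unit.app N))))

omit hq in
lemma units_comp_mvMap (N : S) :
    biprod.lift (q.adjJ.unit.app N) (q.adjF.unit.app N) ≫
      biprod.desc (q.adjF.unit.app (q.jls.obj (q.jst.obj N)))
        (-(q.fls.map (q.fst.map (q.adjJ.unit.app N)))) = 0 := by
  rw [biprod.lift_desc, Preadditive.comp_neg]
  exact add_neg_eq_zero.2 (q.adjF.unit.naturality (q.adjJ.unit.app N))

theorem exists_triangle (N : S) :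
    ∃ d : q.fls.obj (q.fst.obj (q.jls.obj (q.jst.obj N))) ⟶ N⟦(1 : ℤ)⟧,
      Triangle.mk (biprod.lift (q.adjJ.unit.app N) (q.adjF.unit.app N))
        (biprod.desc (q.adjF.unit.app (q.jls.obj (q.jst.obj N)))
          (-(q.fls.map (q.fst.map (q.adjJ.unit.app N))))) d ∈ distTriang S := by
  let b := biprod.desc (q.adjF.unit.app (q.jls.obj (q.jst.obj N)))
    (-(q.fls.map (q.fst.map (q.adjJ.unit.app N))))
  obtain ⟨N', a', d', hT⟩ := distinguished_cocone_triangle₁ b
  obtain ⟨t, ht⟩ := Triangle.coyoneda_exact₂ _ hT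
    (biprod.lift (q.adjJ.unit.app N) (q.adjF.unit.app N)) (units_comp_mvMap N)
  change N ⟶ N' at t
  change biprod.lift (q.adjJ.unit.app N) (q.adjF.unit.app N) = t ≫ a' at ht
  haveI := isIso_jst_unit hq N
  have hv : IsIso (q.jst.map (biprod.inr ≫ b)) := by
    haveI := isIso_jst_fls_map hq (q.fst.map (q.adjJ.unit.app N))
      (isIso_jpst_fst_map hq _ inferInstance)
    simp only [b, biprod.inr_desc, Functor.map_neg]
    exact isIso_neg _
  haveI := isIso_map_fst (L := q.jst) hT hv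
  haveI : IsIso (q.jst.map t ≫ q.jst.map (a' ≫ biprod.fst)) := by
    have e1 : t ≫ a' ≫ biprod.fst = q.adjJ.unit.app N :=
      (Category.assoc _ _ _).symm.trans ((congrArg (· ≫ biprod.fst) ht.symm).trans (biprod.lift_fst _ _))
    rw [← Functor.map_comp, e1]
    infer_instance
  have htj : IsIso (q.jst.map t) := IsIso.of_isIso_comp_right _ (q.jst.map (a' ≫ biprod.fst))
  haveI : IsIso t := isIso_of_killed (L := q.jst) t htj fun Z hZ => by
    have hb := bijective_comp_snd hT (fun x => hom_to_rightAdjoint_eq_zero q.adjJ hZ x)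
      (fun x => hom_to_fls_fst_jls hq hZ x)
      (fun x => hom_to_fls_fst_jls hq (isZero_map_shift hZ 1) x)
    refine (Function.Bijective.of_comp_iff' hb _).1 ?_
    refine (congrArg Function.Bijective ?_).mp (bijective_unitF hq hZ N)
    funext x
    simp [← reassoc_of% ht]
  refine ⟨d' ≫ (shiftFunctor S (1 : ℤ)).map (inv t), isomorphic_distinguished _ hT _
    (Triangle.isoMk _ _ (asIso t : N ≅ N') (Iso.refl _) (Iso.refl _) ?_ ?_ ?_)⟩
  · exact (Category.comp_id _).trans ht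
  · exact (Category.comp_id _).trans (Category.id_comp _).symm
  · refine (Category.assoc _ _ _).trans (Eq.trans ?_ (Category.id_comp _).symm)
    show d' ≫ (shiftFunctor S (1 : ℤ)).map (inv t) ≫ (shiftFunctor S (1 : ℤ)).map t = d'
    rw [← Functor.map_comp, IsIso.inv_hom_id, CategoryTheory.Functor.map_id]
    exact Category.comp_id d'

theorem naturality (N₁ N₂ : S) (φ : N₁ ⟶ N₂)
    (d₁ : q.fls.obj (q.fst.obj (q.jls.obj (q.jst.obj N₁))) ⟶ N₁⟦(1 : ℤ)⟧)
    (d₂ : q.fls.obj (q.fst.obj (q.jls.obj (q.jst.obj N₂))) ⟶ N₂⟦(1 : ℤ)⟧)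
    (h₁ : Triangle.mk (biprod.lift (q.adjJ.unit.app N₁) (q.adjF.unit.app N₁))
        (biprod.desc (q.adjF.unit.app (q.jls.obj (q.jst.obj N₁)))
          (-(q.fls.map (q.fst.map (q.adjJ.unit.app N₁))))) d₁ ∈ distTriang S)
    (h₂ : Triangle.mk (biprod.lift (q.adjJ.unit.app N₂) (q.adjF.unit.app N₂))
        (biprod.desc (q.adjF.unit.app (q.jls.obj (q.jst.obj N₂)))
          (-(q.fls.map (q.fst.map (q.adjJ.unit.app N₂))))) d₂ ∈ distTriang S) :
    d₁ ≫ (shiftFunctor S (1 : ℤ)).map φ = q.fls.map (q.fst.map (q.jls.map (q.jst.map φ))) ≫ d₂ := by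
  haveI := hq.isIso_counitJ
  haveI : q.fls.Additive := q.adjF.right_adjoint_additive
  haveI : q.jls.Additive := q.adjJ.right_adjoint_additive
  let E := q.fls.map (q.fst.map (q.jls.map (q.jst.map φ)))
  let β := biprod.map (q.jls.map (q.jst.map φ)) (q.fls.map (q.fst.map φ))
  have hJ : q.adjJ.unit.app N₁ ≫ q.jls.map (q.jst.map φ) = φ ≫ q.adjJ.unit.app N₂ :=
    (q.adjJ.unit.naturality φ).symm
  have ha : biprod.lift (q.adjJ.unit.app N₁) (q.adjF.unit.app N₁) ≫ β =
      φ ≫ biprod.lift (q.adjJ.unit.app N₂) (q.adjF.unit.app N₂) := by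
    apply biprod.hom_ext <;> simp [β, hJ]
  have hb : biprod.desc (q.adjF.unit.app (q.jls.obj (q.jst.obj N₁)))
        (-(q.fls.map (q.fst.map (q.adjJ.unit.app N₁)))) ≫ E =
      β ≫ biprod.desc (q.adjF.unit.app (q.jls.obj (q.jst.obj N₂)))
        (-(q.fls.map (q.fst.map (q.adjJ.unit.app N₂)))) := by
    apply biprod.hom_ext'
    · simp [β, E]
    · simp only [β, E, biprod.inr_desc_assoc, biprod.inr_map_assoc, biprod.inr_desc,
        Preadditive.neg_comp, Preadditive.comp_neg, ← Functor.map_comp, hJ]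
  obtain ⟨e, he₁, he₂⟩ := complete_distinguished_triangle_morphism _ _ h₁ h₂ φ β ha
  change q.fls.obj (q.fst.obj (q.jls.obj (q.jst.obj N₁))) ⟶ q.fls.obj (q.fst.obj (q.jls.obj (q.jst.obj N₂))) at e
  suffices e = E by subst this; exact he₂
  refine hom_ext_killed q.adjJ (fun Z hZ x => hom_to_fls_fst_jls hq hZ x) ?_
  haveI := isIso_jst_unit hq N₁
  haveI := isIso_jst_fls_map hq (q.fst.map (q.adjJ.unit.app N₁))
    (isIso_jpst_fst_map hq _ inferInstance)
  rw [← cancel_epi (q.jst.map (q.fls.map (q.fst.map (q.adjJ.unit.app N₁))))]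
  simp only [← Functor.map_comp]
  have hbe : biprod.desc (q.adjF.unit.app (q.jls.obj (q.jst.obj N₁)))
        (-(q.fls.map (q.fst.map (q.adjJ.unit.app N₁)))) ≫ e =
      biprod.desc (q.adjF.unit.app (q.jls.obj (q.jst.obj N₁)))
        (-(q.fls.map (q.fst.map (q.adjJ.unit.app N₁)))) ≫ E := he₁.trans hb.symm
  have := congrArg (fun z => q.jst.map (biprod.inr ≫ z)) hbe
  simpa using this

end Square

end Groth.Agent.H16Derived.MVTri
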