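import Groth.Agent.H16Derived.MVTri.Basic

/-!
# Glueing and compactness for Mayer–Vietoris squares
-/

set_option autoImplicit false
set_option linter.style.haveILetI false
set_option linter.unusedSectionVars false

universe v u

open CategoryTheory CategoryTheory.Limits CategoryTheory.Pretriangulated W4c3perfectstacks

namespace Groth.Agent.H16Derived.MVTri

variable {S S' R R' : Type u} [Category.{v} S] [Category.{v} S'] [Category.{v} R] [Category.{v} R']
  [Preadditive S] [Preadditive S'] [Preadditive R] [Preadditive R']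
  [HasZeroObject S] [HasZeroObject S'] [HasZeroObject R] [HasZeroObject R']
  [HasShift S ℤ] [HasShift S' ℤ] [HasShift R ℤ] [HasShift R' ℤ]
  [∀ n : ℤ, (shiftFunctor S n).Additive] [∀ n : ℤ, (shiftFunctor S' n).Additive]
  [∀ n : ℤ, (shiftFunctor R n).Additive] [∀ n : ℤ, (shiftFunctor R' n).Additive]
  [Pretriangulated S] [Pretriangulated S'] [Pretriangulated R] [Pretriangulated R']
  {q : MVSq S S' R R'}
  [q.jst.CommShift ℤ] [q.fst.CommShift ℤ] [q.jpst.CommShift ℤ] [q.gst.CommShift ℤ]
  [q.jst.IsTriangulated] [q.fst.IsTriangulated] [q.jpst.IsTriangulated] [q.gst.IsTriangulated]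
  (hq : q.IsMV)

include hq

theorem glue (NU : R) (N' : S') (δ : q.jpst.obj N' ≅ q.gst.obj NU) (N : S)
    (a : N ⟶ q.jls.obj NU ⊞ q.fls.obj N')
    (d : q.fls.obj (q.jpls.obj (q.gst.obj NU)) ⟶ N⟦(1 : ℤ)⟧)
    (hT : Triangle.mk a
      (biprod.desc (q.adjF.unit.app (q.jls.obj NU) ≫ q.fls.map (q.bc2App NU))
        (-(q.fls.map (q.adjJp.unit.app N' ≫ q.jpls.map δ.hom)))) d ∈ distTriang S) :
    IsIso ((q.adjJ.homEquiv N NU).symm (a ≫ biprod.fst)) ∧
      IsIso ((q.adjF.homEquiv N N').symm (a ≫ biprod.snd)) := by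
  haveI := hq.isIso_counitJ
  haveI := hq.isIso_counitJp
  haveI : q.fls.Additive := q.adjF.right_adjoint_additive
  haveI hδ : IsIso (q.jpst.map (q.jpls.map δ.hom)) := inferInstance
  haveI := isIso_map_unit q.adjJp N'
  let m := q.adjJp.unit.app N' ≫ q.jpls.map δ.hom
  haveI hm : IsIso (q.jpst.map m) := by
    rw [Functor.map_comp]
    exact IsIso.comp_isIso' (isIso_map_unit q.adjJp N') hδ
  haveI := isIso_jst_fls_map hq m hm
  haveI hfst : IsIso (q.jst.map (a ≫ biprod.fst)) := isIso_map_fst (L := q.jst) hT (by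
    rw [biprod.inr_desc, Functor.map_neg]
    exact isIso_neg _)
  constructor
  · rw [Adjunction.homEquiv_counit]
    infer_instance
  let t := (q.adjF.homEquiv N N').symm (a ≫ biprod.snd)
  -- the relation coming from `a ≫ b = 0`
  have hrel : (a ≫ biprod.fst) ≫ q.adjF.unit.app (q.jls.obj NU) ≫ q.fls.map (q.bc2App NU) =
      (a ≫ biprod.snd) ≫ q.fls.map m := by
    have h0 : a ≫ biprod.desc (q.adjF.unit.app (q.jls.obj NU) ≫ q.fls.map (q.bc2App NU))
        (-(q.fls.map m)) = 0 := comp_distTriang_mor_zero₁₂ _ hT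
    rw [biprod.desc_eq, Preadditive.comp_add, Preadditive.comp_neg, Preadditive.comp_neg,
      ← sub_eq_add_neg, sub_eq_zero] at h0
    simpa using h0
  have hrel' : q.fst.map (a ≫ biprod.fst) ≫ q.bc2App NU = t ≫ m := by
    have e := congrArg (q.adjF.homEquiv _ _).symm hrel
    rw [Adjunction.homEquiv_naturality_left_symm, Adjunction.homEquiv_naturality_right_symm, Adjunction.homEquiv_naturality_right_symm] at e
    refine Eq.trans ?_ e
    congr 1
    rw [Adjunction.homEquiv_counit, q.adjF.left_triangle_components]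
    exact (Category.id_comp _).symm
  have ht : IsIso (q.jpst.map t) := by
    haveI := isIso_jpst_fst_map hq (a ≫ biprod.fst) hfst
    haveI := hq.isIso_bc2App NU
    haveI : IsIso (q.jpst.map t ≫ q.jpst.map m) := by
      rw [← Functor.map_comp, ← hrel', Functor.map_comp]
      infer_instance
    exact IsIso.of_isIso_comp_right _ (q.jpst.map m)
  refine isIso_of_killed (L := q.jpst) t ht fun Z hZ => ?_
  haveI := hq.isIso_counitF Z hZ
  have hW : IsZero (q.jst.obj (q.fls.obj Z)) := killed_fls q hq.isIso_bcApp hZ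
  have b1 := bijective_unitF hq hW N
  have b2 := bijective_comp_snd hT (fun x => hom_to_rightAdjoint_eq_zero q.adjJ hW x)
    (fun x => hom_to_fls_jpls q hW x) (fun x => hom_to_fls_jpls q (isZero_map_shift hW 1) x)
  -- `x ↦ y` with `f^* y` equal to `counit ≫ x`
  let Φ : (q.fls.obj Z ⟶ N) → (Z ⟶ q.fst.obj N) := fun y =>
    inv (q.adjF.counit.app Z) ≫ q.fst.map y
  have hΦ : Function.Bijective Φ := by
    have h1 : Function.Bijective (fun z : q.fst.obj (q.fls.obj Z) ⟶ q.fst.obj N =>
        inv (q.adjF.counit.app Z) ≫ z) :=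
      ⟨fun x y hxy => (cancel_epi _).1 hxy, fun w => ⟨q.adjF.counit.app Z ≫ w, by simp⟩⟩
    refine (congrArg Function.Bijective ?_).mp
      (h1.comp ((q.adjF.homEquiv (q.fls.obj Z) (q.fst.obj N)).symm.bijective.comp b1))
    funext y
    show inv (q.adjF.counit.app Z) ≫ (q.adjF.homEquiv _ _).symm (y ≫ q.adjF.unit.app N) = Φ y
    rw [Adjunction.homEquiv_counit, Functor.map_comp, Category.assoc,
      q.adjF.left_triangle_components]
    exact congrArg (inv (q.adjF.counit.app Z) ≫ ·) (Category.comp_id _)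
  refine (Function.Bijective.of_comp_iff _ hΦ).1 ?_
  have h2 : Function.Bijective (fun z : q.fst.obj (q.fls.obj Z) ⟶ N' =>
      inv (q.adjF.counit.app Z) ≫ z) :=
    ⟨fun x y hxy => (cancel_epi _).1 hxy, fun w => ⟨q.adjF.counit.app Z ≫ w, by simp⟩⟩
  refine (congrArg Function.Bijective ?_).mp
    (h2.comp ((q.adjF.homEquiv (q.fls.obj Z) N').symm.bijective.comp b2))
  funext y
  show inv (q.adjF.counit.app Z) ≫ (q.adjF.homEquiv _ _).symm (y ≫ a ≫ biprod.snd) = Φ y ≫ t
  rw [Adjunction.homEquiv_naturality_left_symm]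
  exact (Category.assoc _ _ _).symm

section Compact

open Groth.Agent.H16Derived.Compact

omit hq in
/-- A left adjoint functor detects the finiteness of maps out of a compact object. -/
lemma exists_finset_comp {C D : Type u} [Category.{v} C] [Category.{v} D] [Preadditive C]
    [Preadditive D] [HasCoproducts.{v} C] [HasCoproducts.{v} D] {L : C ⥤ D} {G : D ⥤ C}
    (adj : L ⊣ G) [L.Additive] {K : D} (hK : CohDer.IsCompactObject K) {κ : Type v} (X : κ → C)
    (α : K ⟶ L.obj (∐ X)) :
    ∃ s : Finset κ, ∀ t : Finset κ, s ⊆ t → α ≫ L.map (idem X t) = α := by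
  classical
  haveI := adj.leftAdjoint_preservesColimits
  obtain ⟨s, hs⟩ := (isCompactObject_iff K).1 hK κ _ (α ≫ inv (sigmaComparison L X))
  refine ⟨s, fun t hst => ?_⟩
  have hc : ∀ u : Finset κ, idem (fun k => L.obj (X k)) u ≫ sigmaComparison L X =
      sigmaComparison L X ≫ L.map (idem X u) := fun u => by
    refine Sigma.hom_ext _ _ fun k => ?_
    rw [← Category.assoc, ι_idem, ι_comp_sigmaComparison_assoc, ← Functor.map_comp, ι_idem]
    by_cases hk : k ∈ u <;> simp [hk]
  have e : α ≫ L.map (idem X s) = α := by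
    have := hs =≫ sigmaComparison L X
    simpa [hc s] using this
  have hidem : idem X s ≫ idem X t = idem X s := by
    refine Sigma.hom_ext _ _ fun k => ?_
    rw [← Category.assoc, ι_idem]
    by_cases hk : k ∈ s <;> simp [hk, ι_idem, hst]
    exact fun h => absurd (hst hk) h
  rw [← e, Category.assoc, ← L.map_comp, hidem]

variable [HasCoproducts.{v} S] [HasCoproducts.{v} S'] [HasCoproducts.{v} R] [HasCoproducts.{v} R']

theorem isCompactObject (N : S) (hU : CohDer.IsCompactObject (q.jst.obj N))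
    (hX' : CohDer.IsCompactObject (q.fst.obj N))
    (hU' : CohDer.IsCompactObject (q.gst.obj (q.jst.obj N))) :
    CohDer.IsCompactObject N := by
  classical
  rw [isCompactObject_iff]
  intro κ X α
  obtain ⟨s₁, h₁⟩ := exists_finset_comp q.adjJ hU X (q.jst.map α)
  obtain ⟨s₂, h₂⟩ := exists_finset_comp q.adjF hX' X (q.fst.map α)
  let β := α ≫ (𝟙 _ - idem X (s₁ ∪ s₂))
  have hj : q.jst.map β = 0 := by
    simp [β, h₁ _ Finset.subset_union_left]
  have hf : q.fst.map β = 0 := by
    simp [β, h₂ _ Finset.subset_union_right]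
  haveI : q.jls.Additive := q.adjJ.right_adjoint_additive
  haveI : q.fls.Additive := q.adjF.right_adjoint_additive
  haveI : q.jpls.Additive := q.adjJp.right_adjoint_additive
  obtain ⟨d, hd⟩ := exists_triangle hq (∐ X)
  have h0 : β ≫ biprod.lift (q.adjJ.unit.app (∐ X)) (q.adjF.unit.app (∐ X)) = 0 := by
    apply biprod.hom_ext
    · rw [Category.assoc, biprod.lift_fst, zero_comp]
      exact (q.adjJ.unit.naturality β).trans
        ((congrArg (fun z => q.adjJ.unit.app N ≫ q.jls.map z) hj).trans (by simp))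
    · rw [Category.assoc, biprod.lift_snd, zero_comp]
      exact (q.adjF.unit.naturality β).trans
        ((congrArg (fun z => q.adjF.unit.app N ≫ q.fls.map z) hf).trans (by simp))
  obtain ⟨y, hy⟩ := Triangle.coyoneda_exact₁ _ hd ((shiftFunctor S (1 : ℤ)).map β)
    ((Functor.map_comp _ _ _).symm.trans
      ((congrArg (fun z => (shiftFunctor S (1 : ℤ)).map z) h0).trans (Functor.map_zero _ _ _)))
  change N⟦(1 : ℤ)⟧ ⟶ q.fls.obj (q.fst.obj (q.jls.obj (q.jst.obj (∐ X)))) at y
  change (shiftFunctor S (1 : ℤ)).map β = y ≫ d at hy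
  -- transform `y` into a map out of a compact object
  let L := q.jst ⋙ q.gst
  let adj : L ⊣ q.gls ⋙ q.jls := q.adjJ.comp q.adjG
  have hK : CohDer.IsCompactObject (q.jpst.obj (q.fst.obj (N⟦(1 : ℤ)⟧))) :=
    of_retract (Retract.ofIso ((q.e.app (N⟦(1 : ℤ)⟧)).symm ≪≫ (L.commShiftIso (1 : ℤ)).app N))
      (of_shift (D := R') hU' 1)
  let Φ : ∀ {P : R}, (N⟦(1 : ℤ)⟧ ⟶ q.fls.obj (q.fst.obj (q.jls.obj P))) →
      (q.jpst.obj (q.fst.obj (N⟦(1 : ℤ)⟧)) ⟶ q.gst.obj P) := fun {P} y =>
    (q.adjJp.homEquiv _ _).symm ((q.adjF.homEquiv _ _).symm y ≫ q.bc2App P)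
  have hΦinj : ∀ {P : R}, Function.Injective (Φ (P := P)) := fun {P} y y' h => by
    haveI := hq.isIso_bc2App P
    exact (q.adjF.homEquiv _ _).symm.injective
      ((cancel_mono (q.bc2App P)).1 ((q.adjJp.homEquiv _ _).symm.injective h))
  have hbc2 : ∀ {P P' : R} (h : P ⟶ P'),
      q.fst.map (q.jls.map h) ≫ q.bc2App P' = q.bc2App P ≫ q.jpls.map (q.gst.map h) := by
    intro P P' h
    have hn : q.jpst.map (q.fst.map (q.jls.map h)) ≫ q.e.inv.app (q.jls.obj P') =
        q.e.inv.app (q.jls.obj P) ≫ q.gst.map (q.jst.map (q.jls.map h)) := q.e.inv.naturality _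
    simp only [MVSq.bc2App, Category.assoc, ← Functor.map_comp]
    erw [← q.adjJp.unit_naturality_assoc]
    simp only [← Functor.map_comp]
    rw [reassoc_of% hn]
    simp only [← Functor.map_comp]
    rw [q.adjJ.counit_naturality]
  have hΦnat : ∀ {P P' : R} (y : N⟦(1 : ℤ)⟧ ⟶ q.fls.obj (q.fst.obj (q.jls.obj P))) (h : P ⟶ P'),
      Φ (y ≫ q.fls.map (q.fst.map (q.jls.map h))) = Φ y ≫ q.gst.map h := fun y h => by
    simp only [Φ]
    rw [Adjunction.homEquiv_naturality_right_symm, Category.assoc, hbc2, ← Category.assoc,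
      Adjunction.homEquiv_naturality_right_symm]
  obtain ⟨s₃, h₃⟩ := exists_finset_comp adj hK X (Φ y)
  refine ⟨(s₁ ∪ s₂) ∪ s₃, ?_⟩
  have hy' : y ≫ q.fls.map (q.fst.map (q.jls.map (q.jst.map (idem X s₃)))) = y :=
    hΦinj ((hΦnat y _).trans (h₃ s₃ subset_rfl))
  have hβ : β ≫ idem X s₃ = β := by
    apply (shiftFunctor S (1 : ℤ)).map_injective
    rw [Functor.map_comp, hy, Category.assoc, naturality hq _ _ (idem X s₃) d d hd hd,
      ← Category.assoc, hy']
  have h : α ≫ (𝟙 _ - idem X ((s₁ ∪ s₂) ∪ s₃)) = 0 := by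
    rw [← idem_union, ← Category.assoc, Preadditive.comp_sub, Category.comp_id, hβ, sub_self]
  rw [Preadditive.comp_sub, Category.comp_id, sub_eq_zero] at h
  exact h.symm

end Compact

end Groth.Agent.H16Derived.MVTri
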